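import Cfsg.Agent.H967.Two.Arith
import Cfsg.Agent.H664.R1.PSLTwo
import Cfsg.Agent.S0300

/-!
# FactTwo for `PΩ⁻_8(q)`, `r ∣ q ^ 2 + 1`, `q ≥ 3` (helper967)

`exists_psi_dvd` : `O⁻_4(q)` has an irreducible character of degree divisible by `r`;
`two_minus_eight` : Harish-Chandra induction of `c ⊗ ψ₀`, `c` cuspidal of `GL₂(q)`, gives a degree divisible by `r`;
the other one is `dg F 3`.
-/

set_option autoImplicit false

open Cfsg

namespace Cfsg.Agent.H967.Two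

open Module Cfsg.Agent.H53.HC Cfsg.Agent.H477.HC Cfsg.Agent.H749.Two Cfsg.Agent.H246.Dl Cfsg.Agent.H674.Dl

universe u v w

section psi

variable {K : Type} [Field K] [Finite K] {a b : K}
  (hab : ∀ z₁ z₂ : K, z₁ ^ 2 + a * z₁ * z₂ + b * z₂ ^ 2 = 0 → z₁ = 0 ∧ z₂ = 0)

include hab in
/-- **`O⁻_4(q)` has an irreducible character of degree divisible by `r`, `r ∣ q ^ 2 + 1`** -/
theorem im_four {r : ℕ} (hd : r ∣ Nat.card K ^ 2 + 1) : H33.IM r (CForm.minusF K 1 a b hab).iso := by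
  classical
  have := Fintype.ofFinite K
  have hq : 2 ≤ Nat.card K := Finite.one_lt_card
  obtain ⟨p, hp⟩ := CharP.exists K
  have hpp : Fact p.Prime := ⟨(CharP.char_is_prime_or_zero K p).resolve_right (CharP.char_ne_zero_of_finite K p)⟩
  obtain ⟨s, hs, hs0⟩ := card_pow' K p
  have hs2 : s * 2 ≠ 0 := by omega
  have := Fintype.ofFinite (GaloisField p (s * 2))
  have hL : Fintype.card (GaloisField p (s * 2)) = Nat.card K ^ 2 := by
    rw [← Nat.card_eq_fintype_card, GaloisField.card p _ hs2, hs, pow_mul]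
  obtain ⟨e⟩ := S0300.result (F := K) (K := GaloisField p (s * 2)) Nat.card_eq_fintype_card.symm hL a b hab
  have h4 : 4 ≤ Fintype.card (GaloisField p (s * 2)) := by
    rw [hL]
    nlinarith
  have hdeg : Fintype.card (GaloisField p (s * 2)) + 1 ∈
      charDegrees (Matrix.ProjectiveSpecialLinearGroup (Fin 2) (GaloisField p (s * 2))) := by
    by_cases ho : Odd (Fintype.card (GaloisField p (s * 2)))
    · refine (H664.R1.PSLTwo.degrees_odd ho ?_).2.1
      rw [hL] at ho ⊢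
      have h3 : 3 ≤ Nat.card K := q_ge_three hq ((Nat.odd_pow_iff two_ne_zero).1 ho)
      nlinarith
    · have hp2 : p = 2 := p_even K p fun h => ho (by rw [hL]; exact h.pow)
      subst hp2
      exact (H664.R1.PSLTwo.degrees_even h4).2.1
  have h1 : H33.IM r (Matrix.ProjectiveSpecialLinearGroup (Fin 2) (GaloisField p (s * 2))) :=
    H664.R1.PSLTwo.im_of_mem hdeg (by rwa [hL])
  have h2 : H33.IM r (POmega K (quadFormMinus 1 K a b)) := h1.of_equiv e
  have h3 : H33.IM r (Omega K (quadFormMinus 1 K a b)) := h2.of_quotient _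
  have h5 : H33.IM r (isometryGroup K (quadFormMinus 1 K a b)) := h3.of_normal _
  exact h5.of_equiv (isoQuad (CForm.minusF K 1 a b hab) (minus_hB K 1 a b hab)).symm

theorem exists_psi_dvd {r : ℕ} (hd : r ∣ Nat.card K ^ 2 + 1) :
    ∃ (ψ : (CForm.minusF K 1 a b hab).iso → ℂ) (n : ℕ), IsIrrCharacter _ ψ ∧ ψ 1 = (n : ℂ) ∧ r ∣ n ∧ n ≠ 0 := by
  obtain ⟨χ, hχ⟩ := im_four hab hd
  have hFi := finite_iso (CForm.minusF K 1 a b hab)
  obtain ⟨n, hn, h1⟩ := Characters.Core.isIrr_apply_one χ.2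
  refine ⟨χ, n, χ.2, h1, ?_, hn.ne'⟩
  have h2 : charDegree (χ : (CForm.minusF K 1 a b hab).iso → ℂ) = n := by unfold charDegree; rw [h1]; simp
  rwa [h2] at hχ

theorem no_disj_minus {l k : ℕ} (hk : l < 2 * k) {W : Submodule K ((Fin l ⊕ Fin l) ⊕ Fin 2 → K)}
    (hW : W ∈ (CForm.minusF K l a b hab).Om k) : ∀ W' ∈ (CForm.minusF K l a b hab).Om k,
      W ≤ (CForm.minusF K l a b hab).perp W' → W ⊓ W' = ⊥ → False := by
  intro W' hW' h1 h2
  obtain ⟨e0, f0, j0, h0⟩ := CForm.frm_minus (K := K) hab (Nat.add_zero l)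
  have hts := (CForm.minusF K l a b hab).TS_sup hW.1 hW'.1 h1
  refine no_Om h0 rfl (anis hab) hts ?_
  have h3 := Submodule.finrank_sup_add_finrank_inf_eq W W'
  rw [h2, finrank_bot, hW.2, hW'.2] at h3
  omega

include hab in
/-- the centre of `Ω⁻_8(q)` is trivial -/
theorem center_minus_eight (p : ℕ) [Fact p.Prime] [CharP K p] (z : Omega K (quadFormMinus 3 K a b))
    (hz : z ∈ Subgroup.center (Omega K (quadFormMinus 3 K a b))) : z = 1 := by
  have hq : 2 ≤ Nat.card K := Finite.one_lt_card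
  by_cases ho : Odd (Nat.card K)
  · have h5 := minus_idx_mul K a b hab (l := 3) le_rfl
    have hg : Nat.gcd 4 (Nat.card K ^ (3 + 1) + 1) = 2 := by
      obtain ⟨y, hy⟩ := eight_dvd_even ho (n := 4) ⟨2, rfl⟩
      have h6 : 1 ≤ Nat.card K ^ 4 := Nat.one_le_pow _ _ (by omega)
      have h7 : (Nat.card K ^ (3 + 1) + 1) % 4 = 2 := by
        have : Nat.card K ^ (3 + 1) + 1 = 8 * y + 2 := by
          norm_num
          omega
        omega
      rw [Nat.gcd_rec, h7]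
      decide
    exact center_of_card K h5 (minus_idx_four K (p := p) ho a b hab 3) hg z hz
  · have hp2 : p = 2 := p_even K p ho
    subst hp2
    have h1 : omMat z = 1 := by
      rcases cen_minus K (by norm_num : 1 ≤ 3) a b hab z hz with h | h
      · exact h
      · rw [h]
        ext i j
        rw [Matrix.neg_apply]
        have h2 : (2 : K) = 0 := by
          have := CharP.cast_eq_zero K 2
          exact_mod_cast this
        have h3 : ∀ x : K, -x = x := fun x => by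
          have : x + x = 0 := by rw [← two_mul, h2, zero_mul]
          exact neg_eq_of_add_eq_zero_left this
        exact h3 _
    apply Subtype.ext
    apply Subtype.ext
    apply Units.ext
    exact h1

/-- **the degree `dg F 2 * ψ₀(1)`** -/
theorem psi_dn (p : ℕ) [Fact p.Prime] [CharP K p] (hq3 : 3 ≤ Nat.card K) {ψ : (CForm.minusF K 1 a b hab).iso → ℂ} {n : ℕ}
    (hψ : IsIrrCharacter _ ψ) (hψ1 : ψ 1 = (n : ℂ)) :
    ∃ x, Dn (POmega K (quadFormMinus 3 K a b)) p (Nat.card K) (dg (CForm.minusF K 3 a b hab) 2 * n) x := by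
  classical
  obtain ⟨e, f, j, h⟩ := CForm.frm_minus (K := K) hab (show 2 + 1 = 3 by norm_num)
  obtain ⟨hi, hi'⟩ := idx_minus K (p := p) hab (le_refl 3)
  obtain ⟨c, hc⟩ := exists_cus_one (K := K) rfl 2 (by norm_num) (by nlinarith) (by rintro ⟨h, -⟩; omega)
  obtain ⟨χ, hχ, hχ1, hχz⟩ := exists_hc (cmp_of_frm h rfl) (F := CForm.minusF K 3 a b hab) hc (frm_mem h) hψ
    (no_disj_minus hab (by norm_num) (frm_mem h))
  refine dn_of_iso (CForm.minusF K 3 a b hab) p (minus_hB K 3 a b hab) hχ (d := dg (CForm.minusF K 3 a b hab) 2 * n)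
    (by rw [hχ1, hψ1]; push_cast; ring) (fun z hz z' hz' => ?_) hi hi'
  have hz1 := center_minus_eight hab p z hz
  have : z' = 1 := by
    apply Subtype.ext
    ext v i
    rw [hz', hz1]
    change (Matrix.mulVec (1 : Matrix _ _ K) v) i = v i
    rw [Matrix.one_mulVec]
  rw [this]

/-- the arithmetic: `q ^ 2 + q + 1` separates the two degrees -/
theorem sep_arith {q : ℕ} (hq : 2 ≤ q) :
    ¬ (q ^ 2 + q + 1) ∣ (q ^ 4 + 1) * (q ^ 3 + 1) * ((q - 1) * (q ^ 4 - 1)) := by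
  intro h
  have h1 : 1 ≤ q ^ 4 := Nat.one_le_pow _ _ (by omega)
  have hN : ((q ^ 2 + q + 1 : ℕ) : ℤ) ∣ ((q : ℤ) + 1) * 2 * ((q - 1) * (q - 1)) := by
    have h2 : ((q ^ 2 + q + 1 : ℕ) : ℤ) ∣ (((q ^ 4 + 1) * (q ^ 3 + 1) * ((q - 1) * (q ^ 4 - 1)) : ℕ) : ℤ) :=
      Int.natCast_dvd_natCast.2 h
    push_cast [Nat.cast_sub h1, Nat.cast_sub (by omega : 1 ≤ q)] at h2 ⊢
    have e1 : (q : ℤ) ^ 4 + 1 ≡ q + 1 [ZMOD (q ^ 2 + q + 1)] :=
      (Int.modEq_iff_dvd.2 ⟨(q : ℤ) - q ^ 2, by ring⟩)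
    have e2 : (q : ℤ) ^ 3 + 1 ≡ 2 [ZMOD (q ^ 2 + q + 1)] :=
      (Int.modEq_iff_dvd.2 ⟨1 - (q : ℤ), by ring⟩)
    have e3 : (q : ℤ) ^ 4 - 1 ≡ q - 1 [ZMOD (q ^ 2 + q + 1)] :=
      (Int.modEq_iff_dvd.2 ⟨(q : ℤ) - q ^ 2, by ring⟩)
    have e4 := (e1.mul e2).mul ((Int.ModEq.refl ((q : ℤ) - 1)).mul e3)
    have e5 := dvd_add e4.dvd h2
    rwa [sub_add_cancel] at e5
  have hc1 : IsCoprime ((q ^ 2 + q + 1 : ℕ) : ℤ) ((q : ℤ) + 1) := ⟨1, -q, by push_cast; ring⟩
  have hc2 : IsCoprime ((q ^ 2 + q + 1 : ℕ) : ℤ) 2 := by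
    have h3 : Odd (q ^ 2 + q + 1) := by
      have : Even (q ^ 2 + q) := by rw [sq, ← mul_add_one]; exact Nat.even_mul_succ_self q
      exact this.add_one
    have := Nat.isCoprime_iff_coprime.2 (Nat.coprime_two_right.2 h3)
    exact_mod_cast this
  have h4 : ((q ^ 2 + q + 1 : ℕ) : ℤ) ∣ ((q : ℤ) - 1) * (q - 1) :=
    (hc1.mul_right hc2).dvd_of_dvd_mul_left hN
  have h5 := Int.le_of_dvd (by
    have : (2 : ℤ) ≤ q := by exact_mod_cast hq
    nlinarith) h4
  push_cast at h5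
  nlinarith

end psi

/-- **FactTwo for `PΩ⁻_8(q)`, `q ≥ 3`, `r ∣ q ^ 2 + 1` odd** -/
theorem two_minus_eight {K : Type} [Field K] [Finite K] (p : ℕ) [Fact p.Prime] [CharP K p] {a b : K}
    (hab : ∀ z₁ z₂ : K, z₁ ^ 2 + a * z₁ * z₂ + b * z₂ ^ 2 = 0 → z₁ = 0 ∧ z₂ = 0) (hq3 : 3 ≤ Nat.card K) {r : ℕ}
    (hr : r.Prime) (hr2 : r ≠ 2) (hd : r ∣ Nat.card K ^ 2 + 1) :
    H596.OneFacts.Two r (POmega K (quadFormMinus 3 K a b)) := by
  have hq : 2 ≤ Nat.card K := Finite.one_lt_card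
  obtain ⟨ψ, n, hψ, hψ1, hrn, hn0⟩ := exists_psi_dvd hab hd
  obtain ⟨x, hx⟩ := psi_dn hab p hq3 hψ hψ1
  obtain ⟨y, hy⟩ := minus_dn K p hab (le_refl 3) (show 2 ≤ 3 by norm_num) (le_refl 3) (Or.inl le_rfl)
  have hrx : r ∣ x := hx.dvd_odd hr hr2 (Dvd.dvd.mul_left hrn _)
  -- the degree `D_3`
  have hD3 := D_minus K p hab (show 0 < 3 by norm_num) (show 3 + 0 = 3 by norm_num)
  have e0 : Nat.card K ^ (2 * (0 + 1)) - 1 = (Nat.card K + 1) * (Nat.card K - 1) := by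
    have := sq_sub (Nat.card K) 1
    rwa [pow_one] at this
  have e1 : Nat.card K ^ (2 * (2 + 1)) - 1 = (Nat.card K ^ 3 + 1) * (Nat.card K ^ 3 - 1) := sq_sub _ 3
  have hA : AP (Nat.card K) (Finset.Ico 0 3) = (Nat.card K + 1) * (Nat.card K - 1) *
      ((Nat.card K ^ 4 - 1) * ((Nat.card K ^ 3 + 1) * (Nat.card K ^ 3 - 1))) := by
    rw [AP_succ (by norm_num), AP_succ (by norm_num), AP_succ (by norm_num), e0, e1]
    simp [AP]
  have hD : pp p (dg (CForm.minusF K 3 a b hab) 3) =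
      (Nat.card K ^ 4 + 1) * (Nat.card K ^ 3 + 1) * ((Nat.card K - 1) * (Nat.card K ^ 4 - 1)) := by
    rw [hA] at hD3
    apply Nat.eq_of_mul_eq_mul_right (sub_pos' hq (show 0 < 3 by norm_num))
    apply Nat.eq_of_mul_eq_mul_right (show 0 < Nat.card K ^ (0 + 1) + 1 from Nat.succ_pos _)
    rw [hD3]
    ring
  have hry : r ∣ y := by
    refine hy.dvd_odd hr hr2 (Dvd.dvd.trans ?_ (pp_dvd (p := p) _))
    rw [hD]
    refine Dvd.dvd.mul_left (Dvd.dvd.mul_left ?_ _) _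
    rw [show Nat.card K ^ 4 - 1 = (Nat.card K ^ 2 + 1) * (Nat.card K ^ 2 - 1) from sq_sub _ 2]
    exact Dvd.dvd.mul_right hd _
  have hne : x ≠ y := by
    rintro rfl
    obtain ⟨-, ⟨t, ht⟩, -, h4⟩ := hx
    have hx0 : 0 < x := Nat.pos_of_ne_zero (by
      rintro rfl
      rw [zero_mul] at ht
      exact (Nat.mul_ne_zero (dg_minus_ne K hab (by norm_num) (by norm_num)) hn0) ht)
    rw [ht, Nat.mul_div_cancel_left _ hx0] at h4
    have h5 : pp p (dg (CForm.minusF K 3 a b hab) 2) * pp p n = pp p x * pp p t := by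
      rw [← pp_mul, ht, pp_mul]
    rw [D2_minus_three K p hab] at h5
    have h6 : (Nat.card K ^ 2 + Nat.card K + 1) ∣ Nat.card K ^ 6 - 1 := by
      rw [show Nat.card K ^ 6 - 1 = (Nat.card K ^ 3 + 1) * (Nat.card K ^ 3 - 1) from sq_sub _ 3]
      refine Dvd.dvd.mul_left ?_ _
      refine ⟨Nat.card K - 1, ?_⟩
      obtain ⟨y, hy⟩ : ∃ y, Nat.card K = y + 2 := ⟨Nat.card K - 2, by omega⟩
      rw [hy, show y + 2 - 1 = y + 1 by omega]
      have : (y + 2) ^ 3 = ((y + 2) ^ 2 + (y + 2) + 1) * (y + 1) + 1 := by ring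
      omega
    have h7 : (Nat.card K ^ 2 + Nat.card K + 1) ∣ pp p x * pp p t := by
      rw [← h5]
      exact Dvd.dvd.mul_right (Dvd.dvd.mul_left h6 _) _
    have h8 : Nat.Coprime (Nat.card K ^ 2 + Nat.card K + 1) (pp p t) := by
      have h9 : pp p t ∣ 2 ^ 2 := (pp_dvd t).trans (by simpa using h4)
      refine Nat.Coprime.coprime_dvd_right h9 (Nat.Coprime.pow_right 2 (Nat.coprime_two_right.2 ?_))
      have : Even (Nat.card K ^ 2 + Nat.card K) := by rw [sq, ← mul_add_one]; exact Nat.even_mul_succ_self _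
      exact this.add_one
    have h9 := h8.dvd_of_dvd_mul_right h7
    have h10 : pp p x ∣ pp p (dg (CForm.minusF K 3 a b hab) 3) := pp_dvd_pp hy.2.1
    rw [hD] at h10
    exact sep_arith hq (h9.trans h10)
  obtain ⟨χ, hχ, hχ1⟩ := hx.1
  obtain ⟨ψ', hψ', hψ1'⟩ := hy.1
  have h1 : charDegree χ = x := by unfold charDegree; rw [hχ1]; simp
  have h2 : charDegree ψ' = y := by unfold charDegree; rw [hψ1']; simp
  refine H596.OneFacts.two_of_degree_ne ⟨χ, hχ⟩ ⟨ψ', hψ'⟩ ?_ ?_ ?_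
  · change r ∣ charDegree χ
    rw [h1]; exact hrx
  · change r ∣ charDegree ψ'
    rw [h2]; exact hry
  · change charDegree χ ≠ charDegree ψ'
    rw [h1, h2]; exact hne

end Cfsg.Agent.H967.Two
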