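import Cfsg.Agent.H674.Dl.OrthMinus

/-!
# Arithmetic for the rows of FactTwo of the orthogonal groups (helper967)

`exists_t` : the order `t` of `q ^ 2` modulo `r`: `r ∣ q ^ (2 * j) - 1 ↔ t ∣ j`.
`AP_erase` : splitting off factors of the products `AP`.
`two_of_dn` : two different degrees `dg F j`, `dg F k` divisible by `r` give `Two`.
-/

set_option autoImplicit false

open Cfsg

namespace Cfsg.Agent.H967.Two

open Module Cfsg.Agent.H53.HC Cfsg.Agent.H477.HC Cfsg.Agent.H749.Two Cfsg.Agent.H246.Dl Cfsg.Agent.H674.Dl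

universe u v w

/-! ### the order of `q ^ 2` -/

theorem dvd_pow_sub_iff {q r n : ℕ} (hq : 1 ≤ q) : r ∣ q ^ n - 1 ↔ ((q : ZMod r)) ^ n = 1 := by
  have h1 : 1 ≤ q ^ n := Nat.one_le_pow _ _ hq
  rw [← ZMod.natCast_eq_zero_iff, Nat.cast_sub h1, Nat.cast_pow, Nat.cast_one, sub_eq_zero]

theorem exists_t {q r : ℕ} (hq : 1 ≤ q) (hr : r.Prime) (hrq : ¬ r ∣ q) :
    ∃ t, 0 < t ∧ ∀ j, r ∣ q ^ (2 * j) - 1 ↔ t ∣ j := by
  have : Fact r.Prime := ⟨hr⟩
  have hne : ((q : ZMod r)) ≠ 0 := by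
    rw [Ne, ZMod.natCast_eq_zero_iff]; exact hrq
  refine ⟨orderOf (((q : ZMod r)) ^ 2), ?_, fun j => ?_⟩
  · rw [orderOf_pos_iff, isOfFinOrder_iff_pow_eq_one]
    refine ⟨r - 1, by have := hr.two_le; omega, ?_⟩
    rw [← pow_mul, mul_comm, pow_mul, ZMod.pow_card_sub_one_eq_one hne, one_pow]
  · rw [dvd_pow_sub_iff hq, orderOf_dvd_iff_pow_eq_one, ← pow_mul]

theorem dvd_sq_of_sub {q r j : ℕ} (h : r ∣ q ^ j - 1) : r ∣ q ^ (2 * j) - 1 := h.trans (pow_sub_dvd q j)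

theorem dvd_sq_of_add {q r j : ℕ} (h : r ∣ q ^ j + 1) : r ∣ q ^ (2 * j) - 1 := by
  rw [sq_sub]; exact Dvd.dvd.mul_right h _

theorem sub_or_add {q r j : ℕ} (hr : r.Prime) (h : r ∣ q ^ (2 * j) - 1) : r ∣ q ^ j + 1 ∨ r ∣ q ^ j - 1 := by
  rw [sq_sub] at h
  exact hr.dvd_mul.1 h

/-- the order is odd -/
theorem odd_of_sub {q r t n : ℕ} (ht : ∀ j, r ∣ q ^ (2 * j) - 1 ↔ t ∣ j) (htn : n ≤ t) (hn : 0 < n)
    (h : r ∣ q ^ n - 1) : Odd n := by
  rw [← Nat.not_even_iff_odd]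
  rintro ⟨j, rfl⟩
  rw [← two_mul] at h
  have h1 := (ht j).1 h
  have h2 := Nat.le_of_dvd (by omega) h1
  omega

section AP

variable {q : ℕ}

theorem AP_split {s : Finset ℕ} {i : ℕ} (hi : i ∈ s) : AP q s = (q ^ (2 * (i + 1)) - 1) * AP q (s.erase i) :=
  (Finset.mul_prod_erase s (fun i => q ^ (2 * (i + 1)) - 1) hi).symm

theorem dvd_AP {s : Finset ℕ} {i : ℕ} (hi : i ∈ s) {r : ℕ} (h : r ∣ q ^ (2 * (i + 1)) - 1) : r ∣ AP q s :=
  h.trans (Finset.dvd_prod_of_mem (fun i => q ^ (2 * (i + 1)) - 1) hi)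

theorem dvd_AP_iff {s : Finset ℕ} {r : ℕ} (hr : r.Prime) : r ∣ AP q s ↔ ∃ i ∈ s, r ∣ q ^ (2 * (i + 1)) - 1 :=
  Prime.dvd_finsetProd_iff hr.prime _

end AP

theorem sub_pos' {q n : ℕ} (hq : 2 ≤ q) (hn : 0 < n) : 0 < q ^ n - 1 := by
  have := Nat.one_lt_pow hn.ne' hq
  omega

/-! ### two characters -/

section two

variable {S : Type u} [Group S] {p q r : ℕ}

theorem two_of_many (h : Many r S 2) : H596.OneFacts.Two r S := by
  obtain ⟨χ, h1, h2⟩ := h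
  refine ⟨χ 0, χ 1, h1 0, h1 1, fun σ => ?_⟩
  exact h2 0 1 (by decide) σ

theorem two_of_equiv {T : Type v} [Group T] (e : S ≃* T) (h : H596.OneFacts.Two r T) : H596.OneFacts.Two r S := by
  obtain ⟨α, β, ha, hb, h⟩ := h
  refine two_of_many ⟨fun i => ⟨fun g => (if i = 0 then α.1 else β.1) (e g), ?_⟩, fun i => ?_, fun i j hij σ => ?_⟩
  · by_cases hi : i = 0
    · simp only [hi, if_true]
      exact Characters.Core.isIrr_comp e.toMonoidHom e.surjective α.2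
    · simp only [hi, if_false]
      exact Characters.Core.isIrr_comp e.toMonoidHom e.surjective β.2
  · by_cases hi : i = 0
    · simp only [hi, if_true, charDegree, map_one]
      exact ha
    · simp only [hi, if_false, charDegree, map_one]
      exact hb
  · have hcase : (i = 0 ∧ j ≠ 0) ∨ (i ≠ 0 ∧ j = 0) := by
      revert hij; revert i j; decide
    rcases hcase with ⟨rfl, hj⟩ | ⟨hi, rfl⟩
    · obtain ⟨s, hs⟩ := h ((e.symm.trans σ).trans e)
      refine ⟨e.symm s, ?_⟩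
      simp only [if_true, hj, if_false, MulEquiv.apply_symm_apply]
      exact hs
    · obtain ⟨s, hs⟩ := h ((e.symm.trans σ.symm).trans e)
      refine ⟨σ.symm (e.symm s), ?_⟩
      simp only [if_true, hi, if_false, MulEquiv.apply_symm_apply]
      exact fun h1 => hs h1.symm

/-- two degrees `d j`, `d k` -/
theorem two_of_dn {d : ℕ → ℕ} {j k : ℕ} (hjk : j ≠ k) (hr : r.Prime)
    (hj : ∃ e, Dn S p q (d j) e) (hk : ∃ e, Dn S p q (d k) e)
    (hsep : ∀ j' ∈ ({j, k} : Finset ℕ), ∀ k' ∈ ({j, k} : Finset ℕ), j' ≠ k' → ∀ e e', Dn S p q (d j') e →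
      Dn S p q (d k') e' → e ≠ e')
    (hdj : (r ≠ 2 ∧ r ∣ d j) ∨ (r = 2 ∧ 8 ∣ d j)) (hdk : (r ≠ 2 ∧ r ∣ d k) ∨ (r = 2 ∧ 8 ∣ d k)) :
    H596.OneFacts.Two r S := by
  classical
  refine two_of_many ((many_of_dn' (p := p) (q := q) (d := d) {j, k} hr (fun i hi => ?_) hsep (fun i hi => ?_)).mono ?_)
  · rcases Finset.mem_insert.1 hi with rfl | h
    · exact hj
    · rw [Finset.mem_singleton.1 h]; exact hk
  · rcases Finset.mem_insert.1 hi with rfl | h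
    · exact hdj
    · rw [Finset.mem_singleton.1 h]; exact hdk
  · rw [Finset.card_pair hjk]

/-- one degree `d`, and a small one -/
theorem two_of_small {d t : ℕ} (hr : r.Prime) (hr2 : r ≠ 2) (hd : ∃ e, Dn S p q d e) (hrd : r ∣ d) (hd0 : d ≠ 0)
    (ht : Ch S t) (hrt : r ∣ t) (ht0 : t ≠ 0) (hlt : 4 * pp p t < pp p d) : H596.OneFacts.Two r S := by
  obtain ⟨e, he⟩ := hd
  have hne := he.ne_of_small ht0 hd0 hlt
  obtain ⟨χ, hχ, hχ1⟩ := he.1
  obtain ⟨ψ, hψ, hψ1⟩ := ht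
  have h1 : charDegree χ = e := by unfold charDegree; rw [hχ1]; simp
  have h2 : charDegree ψ = t := by unfold charDegree; rw [hψ1]; simp
  refine H596.OneFacts.two_of_degree_ne ⟨ψ, hψ⟩ ⟨χ, hχ⟩ ?_ ?_ ?_
  · change r ∣ charDegree ψ
    rw [h2]; exact hrt
  · change r ∣ charDegree χ
    rw [h1]; exact he.dvd_odd hr hr2 hrd
  · change charDegree ψ ≠ charDegree χ
    rw [h1, h2]; exact hne

end two

end Cfsg.Agent.H967.Two
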